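import Cfsg.Agent.Lib.CosetEnum.HeBase.Data
import Cfsg.Agent.Lib.CosetEnum.HeS44.Data

/-! Generated certificate. -/

set_option autoImplicit false
set_option maxRecDepth 20000

namespace Cfsg.Lib.CosetEnum.HeBase

theorem orbit0_ok : orbitOK HeS44.tabP orb0 pos0 7 2058 2058 words0 2058 0 = true := by
  decide +kernel

theorem nest0_ok : nestOK HeS44.tabP 7 level0 words1 = true := by
  decide +kernel

theorem orbit1_ok : orbitOK HeS44.tabP orb1 pos1 7 2058 1360 words1 1360 0 = true := by
  decide +kernel

theorem nest1_ok : nestOK HeS44.tabP 7 level1 words2 = true := by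
  decide +kernel

theorem orbit2_ok : orbitOK HeS44.tabP orb2 pos2 7 2058 15 words2 15 0 = true := by
  decide +kernel

theorem nest2_ok : nestOK HeS44.tabP 7 level2 words3 = true := by
  decide +kernel

theorem orbit3_ok : orbitOK HeS44.tabP orb3 pos3 7 2058 96 words3 96 0 = true := by
  decide +kernel

theorem nest3_ok : nestOK HeS44.tabP 7 level3 [] = true := by
  decide +kernel

theorem killWord_pow : permOK HeS44.tabP 7 2058 [(List.replicate 7 killWord).flatten] 2058 0 = true := by
  decide +kernel

end Cfsg.Lib.CosetEnum.HeBase
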