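import Cfsg.Agent.Lib.CosetEnum.Defs

/-! Generated table data. -/

set_option autoImplicit false
set_option maxRecDepth 20000

namespace Cfsg.Lib.CosetEnum.HeBase

/-- Table data. -/
def orb2_0_0 : Tab :=
  (.leaf 0x300003400001000000600002c00003000000d00002400003000000e0000240000200002e400001800002000001b0000140000500002e200001400002000003200001000005000046600001000001000046500000c00001000060200000800003000060100000400003000074e00000400000000074c00000000005000000700000000000)

/-- Table data. -/
def orb2_0 : Tab :=
  orb2_0_0

end Cfsg.Lib.CosetEnum.HeBase
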