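import Cfsg.Agent.Lib.CosetEnum.Defs

/-! Generated table data. -/

set_option autoImplicit false
set_option maxRecDepth 20000

namespace Cfsg.Lib.CosetEnum.HeBase

/-- Table data. -/
def orb3_0_0 : Tab :=
  (.node 1 (.leaf 0x39a0000a00000200003710000980000400003980000980000100002da0000940000400003970000940000300005c300008c00004000040000008400004000044400008400002000032d00007c00004000044200007c00001000054f00007400004000044000007400002000025500006c00004000043e00006c00001000025400006800004000043d00006800003000044e0000600000400003ec0000600000200001c00000580000400003eb0000580000100001bf0000540000400003ea00005400003000044c00004c00004000024200004c00001000022700004800004000024000004800003000023f0000480000100005600000400000400002c400004000002000028b0000380000400002c200003800001000028a0000340000400002c100003400003000039c00002c0000400002bd00002c0000100001740000280000400002bb0000280000300002ba0000280000100002cb00002000004000027c00002000001000011e00001c00004000027a00001c00003000027900001c0000100002ca00001800004000016b00001800003000016a0000180000200003f00000100000400001b300001000001000019500000c0000400001b100000c0000300001b000000c0000100002460000080000400001ae0000080000300001ad0000080000200001b700000400004000018d00000400003000018c0000040000200000f000000400001000027f0000000000400001170000000000300001160000000000200001150000000000100001090000000000000000b400000000000)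 (.leaf 0x66c0001680000400005cf0001580000400004c500014c0000400006c20001400000400004c70001380000400005f500013800002000041f00012c0000400005640001200000400004a400011800004000064b00011800002000045c00010c00004000032e00010400004000044f0001040000200007490000fc00004000051a0000f400004000054c0000f400002000032f0000ec00004000054a0000ec0000100005a70000e00000400002d10000d80000400004c60000d80000200006e30000d00000400003b60000c80000400005e90000c80000200003130000c00000400005e70000c00000100005f20000b80000400002db0000b00000400005970000b00000200001ea0000a80000400005960000a80000100005f10000a000004))

/-- Table data. -/
def orb3_0 : Tab :=
  orb3_0_0

end Cfsg.Lib.CosetEnum.HeBase
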