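import Cfsg.Agent.Lib.CosetEnum.HeBase.Orb0_Data0
import Cfsg.Agent.Lib.CosetEnum.HeBase.Pos0_Data0
import Cfsg.Agent.Lib.CosetEnum.HeBase.Orb1_Data0
import Cfsg.Agent.Lib.CosetEnum.HeBase.Pos1_Data0
import Cfsg.Agent.Lib.CosetEnum.HeBase.Orb2_Data0
import Cfsg.Agent.Lib.CosetEnum.HeBase.Pos2_Data0
import Cfsg.Agent.Lib.CosetEnum.HeBase.Orb3_Data0
import Cfsg.Agent.Lib.CosetEnum.HeBase.Pos3_Data0

/-! Generated certificate. -/

set_option autoImplicit false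
set_option maxRecDepth 20000

namespace Cfsg.Lib.CosetEnum.HeBase

/-- Table. -/
def orb0 : Tab :=
  orb0_0

/-- Table. -/
def pos0 : Tab :=
  pos0_0

/-- Generators of a level. -/
def words0 : List (List Nat) :=
  [[0],
    [1],
    [2],
    [3],
    [4],
    [5],
    [6],
    [1, 0, 1, 0],
    [4, 3, 2, 1, 4, 3, 2, 1, 4, 3, 2, 1, 4, 3, 2, 1, 4, 3, 2, 1, 4, 3, 2, 1, 4, 3, 2, 1]]

/-- A level of the base. -/
def level0 : BaseLevel :=
  ⟨orb0, pos0, 2058, words0⟩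

/-- Table. -/
def orb1 : Tab :=
  orb1_0

/-- Table. -/
def pos1 : Tab :=
  pos1_0

/-- Generators of a level. -/
def words1 : List (List Nat) :=
  [[0],
    [2],
    [3],
    [4],
    [5],
    [1, 0, 1, 0],
    [4, 3, 2, 1, 4, 3, 2, 1, 4, 3, 2, 1, 4, 3, 2, 1, 4, 3, 2, 1, 4, 3, 2, 1, 4, 3, 2, 1]]

/-- A level of the base. -/
def level1 : BaseLevel :=
  ⟨orb1, pos1, 1360, words1⟩

/-- Table. -/
def orb2 : Tab :=
  orb2_0

/-- Table. -/
def pos2 : Tab :=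
  pos2_0

/-- Generators of a level. -/
def words2 : List (List Nat) :=
  [[0],
    [3],
    [4],
    [5],
    [1, 0, 1, 0],
    [4, 3, 2, 1, 4, 3, 2, 1, 4, 3, 2, 1, 4, 3, 2, 1, 4, 3, 2, 1, 4, 3, 2, 1, 4, 3, 2, 1]]

/-- A level of the base. -/
def level2 : BaseLevel :=
  ⟨orb2, pos2, 15, words2⟩

/-- Table. -/
def orb3 : Tab :=
  orb3_0

/-- Table. -/
def pos3 : Tab :=
  pos3_0

/-- Generators of a level. -/
def words3 : List (List Nat) :=
  [[0],
    [3],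
    [4],
    [5],
    [1, 0, 1, 0]]

/-- A level of the base. -/
def level3 : BaseLevel :=
  ⟨orb3, pos3, 96, words3⟩

/-- The element killed in the simplicity proof. -/
def killWord : List Nat :=
  [5, 0, 5, 4, 3, 2, 5, 0, 4, 2, 6]

end Cfsg.Lib.CosetEnum.HeBase
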